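import Mathlib
import Cfsg.Prelude.Def_ClassicalGeometry
import Cfsg.Prelude.Def_GeometricClasses
import Cfsg.Agent.Lib.Helper18.T23.H2.SOTDefs
import Cfsg.Agent.Lib.Helper18.T23.H2.SOTGDefs
import Cfsg.Agent.Lib.Helper18.T23.H4.SOTS
import Cfsg.Agent.Lib.Helper7.SpTN
import Cfsg.Agent.Lib.Helper18.T23.H27.SOTLADefs

/-!
S5666 (LA) leaves U1 (helper27's sub-market, notes/S5666_LA_leaves.lean): the calculus of `uMat`.
-/

set_option autoImplicit false
set_option linter.unusedSectionVars false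
set_option linter.unusedVariables false
set_option linter.unusedSimpArgs false

namespace Cfsg.Agent.Lib.Helper18.T23.H6.SOTLALeaf
open Matrix
open Cfsg.Agent.Lib.Helper25.Tens Cfsg.Agent.Lib.Helper25.SpT Cfsg.Agent.Lib.Helper19.OSub
open Cfsg.Agent.Lib.Helper18.T23.H2.SOT Cfsg.Agent.Lib.Helper18.T23.H27.SOTLA
open scoped Kronecker

variable {F : Type*} [Field F] [Fintype F] {a b : ℕ} {G : Matrix (Fin b) (Fin b) F}
  {M : Subgroup (GL (Idx a b) F)}

/-- the `A`-blocks of `uMat`, no hypotheses. -/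
theorem ablk_uMat_gen (o o' : Fin a) (θ ρ : Fin a → Matrix (Fin b) (Fin b) F)
    (Ξ : Matrix (Fin b) (Fin b) F) (i j : Fin a) :
    ablk (uMat o o' θ ρ Ξ) i j =
      (if i = j then 1 else 0) + (if j = o' then θ i else 0) + (if i = o then ρ j else 0) +
        (if i = o ∧ j = o' then Ξ else 0) := by
  unfold uMat
  rw [ablk_add, ablk_add, ablk_add, ablk_one, ablk_sum, ablk_sum, ablk_kron]
  congr 1
  · congr 1
    · congr 1
      simp only [ablk_kron, Matrix.single_apply]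
      rw [Finset.sum_eq_single i]
      · by_cases h : j = o'
        · subst h; simp
        · have : ¬ (o' = j) := fun h' => h h'.symm
          simp [h, this]
      · intro m _ hm
        simp [hm]
      · simp
    · simp only [ablk_kron, Matrix.single_apply]
      rw [Finset.sum_eq_single j]
      · by_cases h : i = o
        · subst h; simp
        · have : ¬ (o = i) := fun h' => h h'.symm
          simp [h, this]
      · intro m _ hm
        simp [hm]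
      · simp
  · simp only [Matrix.single_apply]
    by_cases h : i = o ∧ j = o'
    · obtain ⟨h1, h2⟩ := h
      subst h1; subst h2; simp
    · have : ¬ (o = i ∧ o' = j) := fun h' => h ⟨h'.1.symm, h'.2.symm⟩
      simp [h, this]

/-- (U1a) -/
theorem uMat_zero (o o' : Fin a) :
    uMat o o' (0 : Fin a → Matrix (Fin b) (Fin b) F) 0 0 = 1 := by
  apply ext_ablk
  intro i j
  rw [ablk_uMat_gen, ablk_one]
  simp

/-- (U1b) `X X' = E_{o,o'} ⊗ Σ_j ρ_j θ'_j` for `X = uMat - 1`. -/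
theorem uMat_mul {o o' : Fin a} (hoo' : o ≠ o') {θ ρ θ' ρ' : Fin a → Matrix (Fin b) (Fin b) F}
    {Ξ Ξ' : Matrix (Fin b) (Fin b) F} (hθ : Mid o o' θ) (hρ : Mid o o' ρ) (hθ' : Mid o o' θ')
    (hρ' : Mid o o' ρ') :
    uMat o o' θ ρ Ξ * uMat o o' θ' ρ' Ξ' =
      uMat o o' (θ + θ') (ρ + ρ') (Ξ + Ξ' + ∑ j, ρ j * θ' j) := by
  have hoo'' : o' ≠ o := fun h => hoo' h.symm
  apply ext_ablk
  intro i j
  rw [ablk_mul]
  simp only [ablk_uMat_gen]
  by_cases hi : i = o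
  · subst hi
    by_cases hj : j = o'
    · subst hj
      simp only [hθ.1, hθ.2, hρ.1, hρ.2, hθ'.1, hθ'.2, hρ'.1, hρ'.2, hoo', hoo'', if_true, if_false,
        true_and, and_true, false_and, and_false, Pi.add_apply, add_zero, zero_add]
      simp only [add_mul, mul_add, Finset.sum_add_distrib, ite_mul, mul_ite, one_mul, mul_one,
        zero_mul, mul_zero, Finset.sum_ite_eq, Finset.sum_ite_eq', Finset.mem_univ, if_true,
        hθ.1, hθ.2, hρ.1, hρ.2, hθ'.1, hθ'.2, hρ'.1, hρ'.2, hoo', hoo'', if_false, add_zero,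
        zero_add, eq_comm, Finset.sum_const_zero]
      abel
    · have hj' : ¬ (o' = j) := fun h => hj h.symm
      simp only [hθ.1, hθ.2, hρ.1, hρ.2, hθ'.1, hθ'.2, hρ'.1, hρ'.2, hoo', hoo'', hj, hj', if_true, if_false,
        true_and, and_true, false_and, and_false, Pi.add_apply, add_zero, zero_add]
      simp only [add_mul, mul_add, Finset.sum_add_distrib, ite_mul, mul_ite, one_mul, mul_one,
        zero_mul, mul_zero, Finset.sum_ite_eq, Finset.sum_ite_eq', Finset.mem_univ, if_true,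
        hθ.1, hθ.2, hρ.1, hρ.2, hθ'.1, hθ'.2, hρ'.1, hρ'.2, hoo', hoo'', hj, hj', if_false, add_zero,
        zero_add, eq_comm, Finset.sum_const_zero]
      abel
  · have hi' : ¬ (o = i) := fun h => hi h.symm
    by_cases hj : j = o'
    · subst hj
      simp only [hθ.1, hθ.2, hρ.1, hρ.2, hθ'.1, hθ'.2, hρ'.1, hρ'.2, hoo', hoo'', hi, hi', if_true, if_false,
        true_and, and_true, false_and, and_false, Pi.add_apply, add_zero, zero_add]
      simp only [add_mul, mul_add, Finset.sum_add_distrib, ite_mul, mul_ite, one_mul, mul_one,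
        zero_mul, mul_zero, Finset.sum_ite_eq, Finset.sum_ite_eq', Finset.mem_univ, if_true,
        hθ.1, hθ.2, hρ.1, hρ.2, hθ'.1, hθ'.2, hρ'.1, hρ'.2, hoo', hoo'', hi, hi', if_false, add_zero,
        zero_add, eq_comm, Finset.sum_const_zero]
      abel
    · have hj' : ¬ (o' = j) := fun h => hj h.symm
      simp only [hθ.1, hθ.2, hρ.1, hρ.2, hθ'.1, hθ'.2, hρ'.1, hρ'.2, hoo', hoo'', hi, hi', hj, hj', if_true, if_false,
        true_and, and_true, false_and, and_false, Pi.add_apply, add_zero, zero_add]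
      simp only [add_mul, mul_add, Finset.sum_add_distrib, ite_mul, mul_ite, one_mul, mul_one,
        zero_mul, mul_zero, Finset.sum_ite_eq, Finset.sum_ite_eq', Finset.mem_univ, if_true,
        hθ.1, hθ.2, hρ.1, hρ.2, hθ'.1, hθ'.2, hρ'.1, hρ'.2, hoo', hoo'', hi, hi', hj, hj', if_false, add_zero,
        zero_add, eq_comm, Finset.sum_const_zero]

lemma mid_zero (o o' : Fin a) : Mid o o' (0 : Fin a → Matrix (Fin b) (Fin b) F) := ⟨rfl, rfl⟩

lemma mid_add {o o' : Fin a} {θ θ' : Fin a → Matrix (Fin b) (Fin b) F} (h : Mid o o' θ)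
    (h' : Mid o o' θ') : Mid o o' (θ + θ') :=
  ⟨by rw [Pi.add_apply, h.1, h'.1, add_zero], by rw [Pi.add_apply, h.2, h'.2, add_zero]⟩

lemma mid_neg {o o' : Fin a} {θ : Fin a → Matrix (Fin b) (Fin b) F} (h : Mid o o' θ) :
    Mid o o' (-θ) :=
  ⟨by rw [Pi.neg_apply, h.1, neg_zero], by rw [Pi.neg_apply, h.2, neg_zero]⟩

lemma mid_smul {o o' : Fin a} {θ : Fin a → Matrix (Fin b) (Fin b) F} (h : Mid o o' θ) (t : F) :
    Mid o o' (t • θ) :=
  ⟨by rw [Pi.smul_apply, h.1, smul_zero], by rw [Pi.smul_apply, h.2, smul_zero]⟩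

/-- (U1c) membership of products. -/
theorem inM_uMat_mul {o o' : Fin a} (hoo' : o ≠ o') {θ ρ θ' ρ' : Fin a → Matrix (Fin b) (Fin b) F}
    {Ξ Ξ' : Matrix (Fin b) (Fin b) F} (hθ : Mid o o' θ) (hρ : Mid o o' ρ) (hθ' : Mid o o' θ')
    (hρ' : Mid o o' ρ') (h1 : InM M (uMat o o' θ ρ Ξ)) (h2 : InM M (uMat o o' θ' ρ' Ξ')) :
    InM M (uMat o o' (θ + θ') (ρ + ρ') (Ξ + Ξ' + ∑ j, ρ j * θ' j)) := by
  obtain ⟨t1, ht1, e1⟩ := h1
  obtain ⟨t2, ht2, e2⟩ := h2
  exact ⟨t1 * t2, M.mul_mem ht1 ht2, by rw [Units.val_mul, e1, e2, uMat_mul hoo' hθ hρ hθ' hρ']⟩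

/-- the inverse of `uMat`. -/
theorem uMat_mul_inv {o o' : Fin a} (hoo' : o ≠ o') {θ ρ : Fin a → Matrix (Fin b) (Fin b) F}
    {Ξ : Matrix (Fin b) (Fin b) F} (hθ : Mid o o' θ) (hρ : Mid o o' ρ) :
    uMat o o' θ ρ Ξ * uMat o o' (-θ) (-ρ) (-Ξ + ∑ j, ρ j * θ j) = 1 := by
  rw [uMat_mul hoo' hθ hρ (mid_neg hθ) (mid_neg hρ)]
  have h1 : θ + -θ = 0 := add_neg_cancel θ
  have h2 : ρ + -ρ = 0 := add_neg_cancel ρ
  have h3 : Ξ + (-Ξ + ∑ j, ρ j * θ j) + ∑ j, ρ j * (-θ) j = 0 := by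
    simp only [Pi.neg_apply, mul_neg, Finset.sum_neg_distrib]
    abel
  rw [h1, h2, h3, uMat_zero]

/-- (U1d) inverses: `(uMat θ ρ Ξ)⁻¹ = uMat (-θ) (-ρ) (-Ξ + Σ_j ρ_j θ_j)`. -/
theorem inM_uMat_inv {o o' : Fin a} (hoo' : o ≠ o') {θ ρ : Fin a → Matrix (Fin b) (Fin b) F}
    {Ξ : Matrix (Fin b) (Fin b) F} (hθ : Mid o o' θ) (hρ : Mid o o' ρ)
    (h1 : InM M (uMat o o' θ ρ Ξ)) :
    InM M (uMat o o' (-θ) (-ρ) (-Ξ + ∑ j, ρ j * θ j)) := by
  obtain ⟨t1, ht1, e1⟩ := h1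
  refine ⟨t1⁻¹, M.inv_mem ht1, ?_⟩
  apply Units.inv_eq_of_mul_eq_one_right
  rw [e1]
  exact uMat_mul_inv hoo' hθ hρ

/-- (U1e) commutators: `[u, u'] = uMat 0 0 (Σ_j (ρ_j θ'_j - ρ'_j θ_j))`. -/
theorem inM_uMat_comm {o o' : Fin a} (hoo' : o ≠ o') {θ ρ θ' ρ' : Fin a → Matrix (Fin b) (Fin b) F}
    {Ξ Ξ' : Matrix (Fin b) (Fin b) F} (hθ : Mid o o' θ) (hρ : Mid o o' ρ) (hθ' : Mid o o' θ')
    (hρ' : Mid o o' ρ') (h1 : InM M (uMat o o' θ ρ Ξ)) (h2 : InM M (uMat o o' θ' ρ' Ξ')) :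
    InM M (uMat o o' 0 0 (∑ j, (ρ j * θ' j - ρ' j * θ j))) := by
  obtain ⟨t1, ht1, e1⟩ := h1
  obtain ⟨t2, ht2, e2⟩ := h2
  refine ⟨(t1 * t2) * (t2 * t1)⁻¹, M.mul_mem (M.mul_mem ht1 ht2) (M.inv_mem (M.mul_mem ht2 ht1)), ?_⟩
  have key : uMat o o' 0 0 (∑ j, (ρ j * θ' j - ρ' j * θ j)) *
      ((t2 * t1 : GL (Idx a b) F) : Matrix (Idx a b) (Idx a b) F) =
      ((t1 * t2 : GL (Idx a b) F) : Matrix (Idx a b) (Idx a b) F) := by
    rw [Units.val_mul, Units.val_mul, e1, e2, uMat_mul hoo' hθ hρ hθ' hρ',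
      uMat_mul hoo' hθ' hρ' hθ hρ,
      uMat_mul hoo' (mid_zero o o') (mid_zero o o') (mid_add hθ' hθ) (mid_add hρ' hρ)]
    congr 1
    · rw [zero_add, add_comm]
    · rw [zero_add, add_comm]
    · simp only [Pi.zero_apply, zero_mul, Finset.sum_const_zero, add_zero, Finset.sum_sub_distrib]
      abel
  rw [Units.val_mul, ← key, Matrix.mul_assoc, ← Units.val_mul, mul_inv_cancel, Units.val_one,
    Matrix.mul_one]

end Cfsg.Agent.Lib.Helper18.T23.H6.SOTLALeaf
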