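import Mathlib
import Cfsg.Prelude.Def_ClassicalGeometry
import Cfsg.Prelude.Def_GeometricClasses
import Cfsg.Agent.Lib.Helper18.T23.H2.SOTDefs
import Cfsg.Agent.Lib.Helper18.T23.H2.SOTGDefs
import Cfsg.Agent.Lib.Helper18.T23.H4.SOTS
import Cfsg.Agent.Lib.Helper7.SpTN
import Cfsg.Agent.Lib.Helper18.T23.H27.SOTLADefs
import Cfsg.Agent.Lib.Helper18.T23.H6.SOTLAU1

/-!
S5666 (LA) leaves U2 (helper27's sub-market, notes/S5666_LA_leaves.lean): the `U`-form.
-/

set_option autoImplicit false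
set_option linter.unusedSectionVars false
set_option linter.unusedVariables false
set_option linter.unusedSimpArgs false

namespace Cfsg.Agent.Lib.Helper18.T23.H6.SOTLALeaf
open Matrix
open Cfsg.Agent.Lib.Helper25.Tens Cfsg.Agent.Lib.Helper25.SpT Cfsg.Agent.Lib.Helper19.OSub
open Cfsg.Agent.Lib.Helper18.T23.H2.SOT Cfsg.Agent.Lib.Helper18.T23.H27.SOTLA
open scoped Kronecker

variable {F : Type*} [Field F] [Fintype F] {a b : ℕ} {G : Matrix (Fin b) (Fin b) F}
  {M : Subgroup (GL (Idx a b) F)}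

/-- (U2a) the blocks of `uMat`. -/
theorem ablk_uMat {o o' : Fin a} (hoo' : o ≠ o') {θ ρ : Fin a → Matrix (Fin b) (Fin b) F}
    {Ξ : Matrix (Fin b) (Fin b) F} (hθ : Mid o o' θ) (hρ : Mid o o' ρ) :
    UA o o' (uMat o o' θ ρ Ξ) ∧ (∀ i, i ≠ o → i ≠ o' → ablk (uMat o o' θ ρ Ξ) i o' = θ i) ∧
      (∀ j, j ≠ o → j ≠ o' → ablk (uMat o o' θ ρ Ξ) o j = ρ j) ∧
      ablk (uMat o o' θ ρ Ξ) o o' = Ξ := by
  have hoo'' : o' ≠ o := fun h => hoo' h.symm
  refine ⟨⟨?_, ?_, ?_⟩, ?_, ?_, ?_⟩
  · intro i j hi hj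
    rw [ablk_uMat_gen]
    simp [hi, hj]
  · rw [ablk_uMat_gen]
    simp [hoo', hρ.1]
  · rw [ablk_uMat_gen]
    simp [hoo'', hθ.2]
  · intro i hi hi'
    rw [ablk_uMat_gen]
    simp [hi, hi']
  · intro j hj hj'
    rw [ablk_uMat_gen]
    have : ¬ (o = j) := fun h => hj h.symm
    simp [hj, hj', this]
  · rw [ablk_uMat_gen]
    simp [hoo', hθ.1, hρ.2]

/-- (U2b) every `U`-form matrix is a `uMat`. -/
theorem exists_uMat_of_UA {o o' : Fin a} (hoo' : o ≠ o') {X : Matrix (Idx a b) (Idx a b) F}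
    (hX : UA o o' X) :
    ∃ (θ ρ : Fin a → Matrix (Fin b) (Fin b) F) (Ξ : Matrix (Fin b) (Fin b) F),
      Mid o o' θ ∧ Mid o o' ρ ∧ X = uMat o o' θ ρ Ξ := by
  have hoo'' : o' ≠ o := fun h => hoo' h.symm
  refine ⟨fun i => if i = o ∨ i = o' then 0 else ablk X i o',
    fun j => if j = o ∨ j = o' then 0 else ablk X o j, ablk X o o', ⟨by simp, by simp⟩,
    ⟨by simp, by simp⟩, ?_⟩
  apply ext_ablk
  intro i j
  rw [ablk_uMat_gen]
  by_cases hi : i = o
  · subst hi
    by_cases hj : j = o'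
    · subst hj
      simp [hoo']
    · by_cases hj2 : j = i
      · subst hj2
        simp [hX.2.1, hoo']
      · have : ¬ (i = j) := fun h => hj2 h.symm
        simp [hj, hj2, this]
  · by_cases hj : j = o'
    · subst hj
      by_cases hi2 : i = j
      · subst hi2
        simp [hX.2.2, hoo'']
      · simp [hi, hi2]
    · rw [hX.1 i j hi hj]
      simp [hi, hj]

lemma ablk_EN (o o' i j : Fin a) :
    ablk (EN o o' : Matrix (Idx a b) (Idx a b) F) i j = if i = o ∧ j = o' then 1 else 0 := by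
  unfold EN
  rw [ablk_kron, Matrix.single_apply]
  by_cases h : i = o ∧ j = o'
  · obtain ⟨h1, h2⟩ := h
    subst h1; subst h2; simp
  · have : ¬ (o = i ∧ o' = j) := fun h' => h ⟨h'.1.symm, h'.2.symm⟩
    simp [h, this]

lemma ablk_EN_mul (o o' : Fin a) (Y : Matrix (Idx a b) (Idx a b) F) (i j : Fin a) :
    ablk (EN o o' * Y) i j = if i = o then ablk Y o' j else 0 := by
  rw [ablk_mul]
  simp only [ablk_EN]
  by_cases hi : i = o
  · subst hi
    simp
  · simp [hi]

lemma ablk_mul_EN (o o' : Fin a) (Y : Matrix (Idx a b) (Idx a b) F) (i j : Fin a) :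
    ablk (Y * EN o o') i j = if j = o' then ablk Y i o else 0 := by
  rw [ablk_mul]
  simp only [ablk_EN]
  by_cases hj : j = o'
  · subst hj
    simp
  · simp [hj]

lemma EN_mulVec (o o' : Fin a) (v : Idx a b → F) (p : Idx a b) :
    (EN o o' *ᵥ v) p = if p.1 = o then v (o', p.2) else 0 := by
  obtain ⟨i, k⟩ := p
  unfold EN
  simp only [Matrix.mulVec, dotProduct, Fintype.sum_prod_type, Matrix.kroneckerMap_apply,
    Matrix.single_apply, Matrix.one_apply]
  by_cases hi : i = o
  · subst hi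
    simp
  · have : ¬ (o = i) := fun h => hi h.symm
    simp [hi, this]

lemma mulVec_ablk (Y : Matrix (Idx a b) (Idx a b) F) (v : Idx a b → F) (p : Idx a b) :
    (Y *ᵥ v) p = ∑ j, (ablk Y p.1 j *ᵥ fun l => v (j, l)) p.2 := by
  obtain ⟨i, k⟩ := p
  simp only [Matrix.mulVec, dotProduct, Fintype.sum_prod_type, ablk]

/-- (U2c) invariant characterisation of the `U`-form with `N = EN o o'`. -/
theorem UA_iff_N {o o' : Fin a} (hoo' : o ≠ o') (X : Matrix (Idx a b) (Idx a b) F) :
    UA o o' X ↔ (EN o o' * (X - 1) = 0 ∧ (X - 1) * EN o o' = 0 ∧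
      ∀ v : Idx a b → F, EN o o' *ᵥ v = 0 → ∃ v' : Idx a b → F, (X - 1) *ᵥ v = EN o o' *ᵥ v') := by
  have hoo'' : o' ≠ o := fun h => hoo' h.symm
  constructor
  · rintro ⟨h1, h2, h3⟩
    refine ⟨?_, ?_, ?_⟩
    · apply ext_ablk
      intro i j
      rw [ablk_EN_mul, ablk_zero]
      by_cases hi : i = o
      · rw [if_pos hi, ablk_sub, ablk_one]
        by_cases hj : j = o'
        · subst hj
          rw [h3, if_pos rfl, sub_self]
        · rw [h1 o' j hoo'' hj, sub_self]
      · rw [if_neg hi]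
    · apply ext_ablk
      intro i j
      rw [ablk_mul_EN, ablk_zero]
      by_cases hj : j = o'
      · rw [if_pos hj, ablk_sub, ablk_one]
        by_cases hi : i = o
        · subst hi
          rw [h2, if_pos rfl, sub_self]
        · rw [h1 i o hi hoo', sub_self]
      · rw [if_neg hj]
    · intro v hv
      have hv0 : ∀ l, v (o', l) = 0 := by
        intro l
        have := congrFun hv (o, l)
        rw [EN_mulVec] at this
        simpa using this
      refine ⟨fun p => if p.1 = o' then ((X - 1) *ᵥ v) (o, p.2) else 0, ?_⟩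
      funext p
      rw [EN_mulVec]
      by_cases hp : p.1 = o
      · rw [if_pos hp]
        simp only [if_true]
        congr 1
        exact Prod.ext hp rfl
      · rw [if_neg hp, mulVec_ablk]
        apply Finset.sum_eq_zero
        intro j _
        by_cases hj : j = o'
        · subst hj
          have : (fun l => v (j, l)) = 0 := by funext l; exact hv0 l
          rw [this, Matrix.mulVec_zero]
          rfl
        · rw [ablk_sub, ablk_one, h1 p.1 j hp hj, sub_self, Matrix.zero_mulVec]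
          rfl
  · rintro ⟨h1, h2, h3⟩
    have r1 : ∀ j, ablk (X - 1) o' j = 0 := by
      intro j
      have := congrArg (fun Y => ablk Y o j) h1
      simp only [ablk_EN_mul, if_true, ablk_zero] at this
      exact this
    have r2 : ∀ i, ablk (X - 1) i o = 0 := by
      intro i
      have := congrArg (fun Y => ablk Y i o') h2
      simp only [ablk_mul_EN, if_true, ablk_zero] at this
      exact this
    refine ⟨?_, ?_, ?_⟩
    · intro i j hi hj
      have key : ablk (X - 1) i j = 0 := by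
        ext k l
        obtain ⟨v', hv'⟩ := h3 (Pi.single (j, l) 1) (by
          funext p
          rw [EN_mulVec]
          by_cases hp : p.1 = o
          · rw [if_pos hp, Pi.single_apply, if_neg]
            · rfl
            · intro h
              exact hj (congrArg Prod.fst h).symm
          · rw [if_neg hp]; rfl)
        have := congrFun hv' (i, k)
        rw [EN_mulVec, if_neg hi, Matrix.mulVec_single_one] at this
        exact this
      rw [ablk_sub, ablk_one, sub_eq_zero] at key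
      exact key
    · have := r2 o
      rw [ablk_sub, ablk_one, if_pos rfl, sub_eq_zero] at this
      exact this
    · have := r1 o'
      rw [ablk_sub, ablk_one, if_pos rfl, sub_eq_zero] at this
      exact this

/-- (U2d) conjugation by an element normalising `N` up to a scalar preserves the `U`-form. -/
theorem UA_conj {o o' : Fin a} (hoo' : o ≠ o') (g : GL (Idx a b) F) {c : F} (hc : c ≠ 0)
    (hN : (g : Matrix (Idx a b) (Idx a b) F) * EN o o' * ((g⁻¹ : GL (Idx a b) F) :
      Matrix (Idx a b) (Idx a b) F) = c • EN o o') {X : Matrix (Idx a b) (Idx a b) F}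
    (hX : UA o o' X) :
    UA o o' ((g : Matrix (Idx a b) (Idx a b) F) * X * ((g⁻¹ : GL (Idx a b) F) :
      Matrix (Idx a b) (Idx a b) F)) := by
  rw [UA_iff_N hoo'] at hX ⊢
  obtain ⟨h1, h2, h3⟩ := hX
  have gi : ((g⁻¹ : GL (Idx a b) F) : Matrix (Idx a b) (Idx a b) F) *
      (g : Matrix (Idx a b) (Idx a b) F) = 1 := by
    rw [← Units.val_mul, inv_mul_cancel, Units.val_one]
  have gi' : (g : Matrix (Idx a b) (Idx a b) F) *
      ((g⁻¹ : GL (Idx a b) F) : Matrix (Idx a b) (Idx a b) F) = 1 := by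
    rw [← Units.val_mul, mul_inv_cancel, Units.val_one]
  have hsub : (g : Matrix (Idx a b) (Idx a b) F) * X *
      ((g⁻¹ : GL (Idx a b) F) : Matrix (Idx a b) (Idx a b) F) - 1 =
      (g : Matrix (Idx a b) (Idx a b) F) * (X - 1) *
      ((g⁻¹ : GL (Idx a b) F) : Matrix (Idx a b) (Idx a b) F) := by
    rw [Matrix.mul_sub, Matrix.sub_mul, Matrix.mul_one, gi']
  have hEN : EN o o' = c⁻¹ • ((g : Matrix (Idx a b) (Idx a b) F) * EN o o' *
      ((g⁻¹ : GL (Idx a b) F) : Matrix (Idx a b) (Idx a b) F)) := by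
    rw [hN, smul_smul, inv_mul_cancel₀ hc, one_smul]
  have hEg : EN o o' * (g : Matrix (Idx a b) (Idx a b) F) =
      c⁻¹ • ((g : Matrix (Idx a b) (Idx a b) F) * EN o o') := by
    conv_lhs => rw [hEN]
    rw [Matrix.smul_mul, Matrix.mul_assoc, gi, Matrix.mul_one]
  have hgE : ((g⁻¹ : GL (Idx a b) F) : Matrix (Idx a b) (Idx a b) F) * EN o o' =
      c⁻¹ • (EN o o' * ((g⁻¹ : GL (Idx a b) F) : Matrix (Idx a b) (Idx a b) F)) := by
    conv_lhs => rw [hEN]
    rw [Matrix.mul_smul, ← Matrix.mul_assoc, ← Matrix.mul_assoc, gi, Matrix.one_mul]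
  rw [hsub]
  refine ⟨?_, ?_, ?_⟩
  · rw [← Matrix.mul_assoc, ← Matrix.mul_assoc, hEg, Matrix.smul_mul, Matrix.smul_mul,
      Matrix.mul_assoc (g : Matrix (Idx a b) (Idx a b) F), h1, Matrix.mul_zero, Matrix.zero_mul,
      smul_zero]
  · rw [Matrix.mul_assoc, hgE, Matrix.mul_smul, ← Matrix.mul_assoc,
      Matrix.mul_assoc (g : Matrix (Idx a b) (Idx a b) F), h2, Matrix.mul_zero, Matrix.zero_mul,
      smul_zero]
  · intro v hv
    have hv' : EN o o' *ᵥ (((g⁻¹ : GL (Idx a b) F) : Matrix (Idx a b) (Idx a b) F) *ᵥ v) = 0 := by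
      rw [Matrix.mulVec_mulVec]
      have h4 : EN o o' * ((g⁻¹ : GL (Idx a b) F) : Matrix (Idx a b) (Idx a b) F) =
          c • (((g⁻¹ : GL (Idx a b) F) : Matrix (Idx a b) (Idx a b) F) * EN o o') := by
        rw [hgE, smul_smul, mul_inv_cancel₀ hc, one_smul]
      rw [h4, Matrix.smul_mulVec, ← Matrix.mulVec_mulVec, hv, Matrix.mulVec_zero, smul_zero]
    obtain ⟨v'', hv''⟩ := h3 _ hv'
    refine ⟨c • ((g : Matrix (Idx a b) (Idx a b) F) *ᵥ v''), ?_⟩
    rw [← Matrix.mulVec_mulVec, ← Matrix.mulVec_mulVec, hv'', Matrix.mulVec_mulVec,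
      Matrix.mulVec_smul, Matrix.mulVec_mulVec, hEg, Matrix.smul_mulVec, smul_smul,
      mul_inv_cancel₀ hc, one_smul]

end Cfsg.Agent.Lib.Helper18.T23.H6.SOTLALeaf
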